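import Cfsg.Agent.H137.K4.ReeEight
import Cfsg.Agent.H601.K4.Defs
import Cfsg.Agent.H646.DefectBasic
import Cfsg.Agent.H729.CharTwoBlock
import Cfsg.Agent.Ree.RhoType
import Cfsg.Agent.Ree.Reduce
import Cfsg.Agent.Ree.PSLDihMain
import Cfsg.Agent.S1069
import Cfsg.Agent.S1073
import Cfsg.Agent.S1152
import Cfsg.Agent.S1157

/-!
# S4947 / S4547: the small Ree groups (helper137)

* `inB0_of_centralizer`: if the centralizer of a Sylow 2-subgroup is a 2-group, all irreducible characters of odd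
  degree are in the principal 2-block;
* `sigFix_of_exp`: if the Sylow 2-subgroups are elementary abelian, every class function is `SigFix`;
* `good5_ree`: `Good5` for the small Ree groups.
-/

set_option autoImplicit false

namespace Cfsg.Agent.H137.K4

open Cfsg Cfsg.Agent.Characters.Core Cfsg.Agent.H601.K4

universe u

section general

variable {S : Type u} [Group S]

/-- If the centralizer of a Sylow `2`-subgroup is a `2`-group, all irreducible characters of odd degree lie in the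
principal `2`-block. -/
theorem inB0_of_centralizer [Finite S] (P : Sylow 2 S)
    (hC : IsPGroup 2 (Subgroup.centralizer ((P : Subgroup S) : Set S))) {χ : S → ℂ} (h : OddIrr χ) : InB0 χ := by
  intro M hM hi
  have : M.IsPrime := hM.2.1.isPrime
  have hB : IsPBlock M (blockOf M χ) := ⟨⟨χ, hi⟩, rfl⟩
  have hmem : (⟨χ, hi⟩ : IrrCharacter S) ∈ blockOf M χ := Blocks.Basic.mem_blockOf_self (M := M) (⟨χ, hi⟩ : IrrCharacter S)
  have h1 : IsDefectGroup 2 M (blockOf M χ) (P : Subgroup S) :=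
    (H646.DefectBasic.isDefectGroup_iff_sylow hM hB hmem h.2 _).2 ⟨P, rfl⟩
  rw [← H729.CharTwoBlock.eq_principal_of_centralizer hM hB h1 hC]
  exact hmem

/-- If `C(P) ≤ P` for a Sylow `2`-subgroup `P`, all irreducible characters of odd degree lie in the principal
`2`-block. -/
theorem inB0_of_centralizer_le [Finite S] (P : Sylow 2 S)
    (hC : Subgroup.centralizer ((P : Subgroup S) : Set S) ≤ P) {χ : S → ℂ} (h : OddIrr χ) : InB0 χ :=
  inB0_of_centralizer P (P.isPGroup'.to_le hC) h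

/-- If the `2`-elements are involutions (or trivial), all characters are `SigFix`. -/
theorem sigFix_of_exp [Finite S] (h : ∀ x : S, (∃ j : ℕ, orderOf x = 2 ^ j) → x * x = 1) (χ : S → ℂ) : SigFix χ := by
  intro k h2 h3 g
  congr 1
  -- the 2-part and the 2'-part of `g`
  have h0 : orderOf g ≠ 0 := (orderOf_pos g).ne'
  obtain ⟨a, m, hm, hgm⟩ : ∃ a m : ℕ, Odd m ∧ orderOf g = 2 ^ a * m := by
    obtain ⟨a, m, hm, hgm⟩ := Nat.exists_eq_two_pow_mul_odd h0
    exact ⟨a, m, hm, hgm⟩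
  have hco : Nat.Coprime (2 ^ a) m := Nat.Coprime.pow_left a (Nat.coprime_two_left.2 hm)
  -- `k ≡ 1` modulo the order of `g`
  have e1 : g ^ m * g ^ m = 1 := by
    apply h
    refine ⟨a, ?_⟩
    rw [orderOf_pow' g (by rintro rfl; exact absurd hm (by decide)), hgm, Nat.gcd_eq_right (Dvd.intro_left _ rfl),
      Nat.mul_div_cancel _ (Nat.pos_of_ne_zero (by rintro rfl; exact absurd hm (by decide)))]
  have e2 : (g ^ m) ^ k = (g ^ m) ^ 3 := by
    apply h2
    refine ⟨a, ?_⟩
    rw [orderOf_pow' g (by rintro rfl; exact absurd hm (by decide)), hgm, Nat.gcd_eq_right (Dvd.intro_left _ rfl),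
      Nat.mul_div_cancel _ (Nat.pos_of_ne_zero (by rintro rfl; exact absurd hm (by decide)))]
  have e3 : (g ^ 2 ^ a) ^ k = g ^ 2 ^ a := by
    apply h3
    rw [orderOf_pow' g (by positivity), hgm, Nat.gcd_eq_right (Dvd.intro _ rfl), Nat.mul_div_cancel_left _ (by positivity)]
    exact hm
  have e4 : (g ^ m) ^ 3 = g ^ m := by
    rw [pow_succ, pow_two, e1, one_mul]
  rw [e4] at e2
  have f1 : (g ^ k * g⁻¹) ^ m = 1 := by
    have hc : Commute (g ^ k) g⁻¹ := ((Commute.refl g).pow_left k).inv_right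
    rw [hc.mul_pow, ← pow_mul, mul_comm k m, pow_mul, e2, inv_pow, mul_inv_cancel]
  have f2 : (g ^ k * g⁻¹) ^ 2 ^ a = 1 := by
    have hc : Commute (g ^ k) g⁻¹ := ((Commute.refl g).pow_left k).inv_right
    rw [hc.mul_pow, ← pow_mul, mul_comm k, pow_mul, e3, inv_pow, mul_inv_cancel]
  have f3 : orderOf (g ^ k * g⁻¹) ∣ 1 := by
    rw [← Nat.Coprime.gcd_eq_one hco]
    exact Nat.dvd_gcd (orderOf_dvd_of_pow_eq_one f2) (orderOf_dvd_of_pow_eq_one f1)
  have f4 : g ^ k * g⁻¹ = 1 := orderOf_eq_one_iff.1 (Nat.dvd_one.1 f3)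
  exact mul_inv_eq_one.1 f4

/-- Elementary abelian Sylow `2`-subgroups. -/
theorem sigFix_of_sylow [Finite S] (h : ∀ P : Sylow 2 S, ∀ x ∈ (P : Subgroup S), x * x = 1) (χ : S → ℂ) : SigFix χ := by
  refine sigFix_of_exp ?_ χ
  rintro x ⟨j, hj⟩
  have : Fact (Nat.Prime 2) := ⟨Nat.prime_two⟩
  obtain ⟨P, hP⟩ : ∃ P : Sylow 2 S, Subgroup.zpowers x ≤ P := by
    apply IsPGroup.exists_le_sylow
    apply IsPGroup.of_card (n := j)
    rw [Nat.card_zpowers, hj]
  exact h P x (hP (Subgroup.mem_zpowers x))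

theorem sigFix_congr {T : Type*} [Group T] (e : S ≃* T) {χ : T → ℂ} (h : SigFix χ) : SigFix fun s => χ (e s) := by
  intro k h2 h3 g
  show χ (e (g ^ k)) = χ (e g)
  rw [map_pow]
  refine h k (fun t ⟨j, hj⟩ => ?_) (fun t ht => ?_) (e g)
  · have h4 := h2 (e.symm t) ⟨j, by rw [MulEquiv.orderOf_eq]; exact hj⟩
    have h5 := congrArg e h4
    simpa using h5
  · have h4 := h3 (e.symm t) (by rw [MulEquiv.orderOf_eq]; exact ht)
    have h5 := congrArg e h4
    simpa using h5

end general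

section ree

variable {S : Type u} [Group S]

/-- The simple groups with abelian Sylow `2`-subgroups and the involution centralizer `Z₂ × PSL(2, q)`, `q > 5`. -/
theorem good5_of_cent [Finite S] [IsSimpleGroup S] (hab : ∀ P : Sylow 2 S, ∀ a b : P, a * b = b * a)
    {F : Type*} [Field F] [Fintype F] (hq : 5 < Fintype.card F) (t : S) (ht : orderOf t = 2)
    (hC : Nonempty (Subgroup.centralizer ({t} : Set S) ≃* Multiplicative (ZMod 2) × Matrix.ProjectiveSpecialLinearGroup (Fin 2) F)) :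
    ∃ χ : Fin 8 → S → ℂ, Function.Injective χ ∧ ∀ i, Good (χ i) := by
  rcases Ree.Reduce.reduce hab (by omega) t ht hC with h | ⟨hmod, -, h8, hexp, hconj, hPN⟩
  · rcases h.1 with h | h <;> omega
  obtain ⟨e⟩ := hC
  obtain ⟨m, ε, hε, hm, hm1, hq⟩ : ∃ (m : ℕ) (ε : ℤ), (ε = 1 ∨ ε = -1) ∧ Odd m ∧ 1 < m ∧
      (Fintype.card F : ℤ) = 4 * m + ε := by
    rcases hmod with h | h
    · exact ⟨2 * (Fintype.card F / 8) + 1, -1, Or.inr rfl, odd_two_mul_add_one _, by omega, by
        push_cast; omega⟩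
    · exact ⟨2 * (Fintype.card F / 8) + 1, 1, Or.inl rfl, odd_two_mul_add_one _, by omega, by
        push_cast; omega⟩
  obtain ⟨L, hL⟩ := Ree.LocalSetup.comp_of_iso (Ree.LocalSetup.good_of_mod hmod) ht e
  obtain ⟨s, ρ, P, Ls, V, Y, hloc⟩ := Ree.LocalSetup.exists_local hε hq hm
    (Ree.PSLDihMain.pslDih m ε hε hm hq) hconj h8 hexp ht hL
  obtain ⟨χ, hχ, hodd⟩ := ReeEight.exists_eight (Ree.RhoType.good hloc hm1)
  refine ⟨fun i => (χ i : S → ℂ), fun i j hij => hχ (Subtype.ext hij), fun i => ⟨⟨(χ i).2, hodd i⟩, ?_, ?_⟩⟩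
  · exact sigFix_of_sylow hexp _
  · exact inB0_of_centralizer_le P (hPN P).2.le ⟨(χ i).2, hodd i⟩

/-- **Eight good characters** of the small Ree groups. -/
theorem eight_ree (h : Lie.IsoRee S) : ∃ χ : Fin 8 → S → ℂ, Function.Injective χ ∧ ∀ i, Good (χ i) := by
  obtain ⟨K, _, _, m, hm, hK, ⟨e⟩⟩ := h
  have hsT := (Cfsg.Agent.S1073.result hm hK).1
  obtain ⟨a, haH, ha1, ha2⟩ := Cfsg.Agent.S1157.exists_involution hK
  obtain ⟨⟨f⟩, hS⟩ := Cfsg.Agent.S1152.result hK a haH ha1 ha2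
  have hcard := Cfsg.Agent.S1069.result hK
  have hq : 27 ≤ 3 ^ (2 * m + 1) := by
    have : 3 ^ 3 ≤ 3 ^ (2 * m + 1) := Nat.pow_le_pow_right (by norm_num) (by omega)
    omega
  have hfin : Finite ↥(Cfsg.Lie.twistedG2 K (3 ^ m)) := by
    apply Nat.finite_of_card_ne_zero
    rw [hcard]
    have h1 : 3 ^ (2 * m + 1) - 1 ≠ 0 := by omega
    positivity
  have hfinS : Finite S := Finite.of_equiv _ e.symm.toEquiv
  have hsS : IsSimpleGroup S := e.isSimpleGroup
  have : Fact (Nat.Prime 2) := ⟨Nat.prime_two⟩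
  have hexp : ∀ P : Sylow 2 S, ∀ x ∈ (P : Subgroup S), x * x = 1 := by
    intro P x hx
    have h1 : IsPGroup 2 ((P : Subgroup S).map e.toMonoidHom) := P.isPGroup'.map _
    obtain ⟨Q, hQ⟩ := h1.exists_le_sylow
    have h2 := (hS Q).2 (e x) (hQ ⟨x, hx, rfl⟩)
    rw [← map_mul] at h2
    exact (map_eq_one_iff e e.injective).1 h2
  have hab : ∀ P : Sylow 2 S, ∀ a b : P, a * b = b * a := by
    intro P a b
    apply Subtype.ext
    have h1 := hexp P a a.2
    have h2 := hexp P b b.2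
    have h3 := hexp P _ (mul_mem a.2 b.2)
    have e1 : (a : S)⁻¹ = a := inv_eq_of_mul_eq_one_left h1
    have e2 : (b : S)⁻¹ = b := inv_eq_of_mul_eq_one_left h2
    have e3 : ((a : S) * b)⁻¹ = a * b := inv_eq_of_mul_eq_one_left h3
    rw [mul_inv_rev, e1, e2] at e3
    exact e3.symm
  have ht : orderOf (e.symm a) = 2 := by
    rw [MulEquiv.orderOf_eq]
    exact orderOf_eq_prime (by rw [pow_two, ha2]) ha1
  refine good5_of_cent hab (F := K) (by rw [hK]; omega) (e.symm a) ht ⟨?_⟩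
  refine MulEquiv.trans ?_ f
  refine (e.subgroupMap _).trans (MulEquiv.subgroupCongr ?_)
  ext y
  constructor
  · rintro ⟨x, hx, rfl⟩
    rw [Subgroup.mem_centralizer_singleton_iff]
    have h1 := Subgroup.mem_centralizer_singleton_iff.1 hx
    have h2 := congrArg e h1
    simpa using h2
  · intro hy
    refine ⟨e.symm y, ?_, by simp⟩
    apply Subgroup.mem_centralizer_singleton_iff.2
    have h1 := Subgroup.mem_centralizer_singleton_iff.1 hy
    rw [← map_mul, h1, map_mul]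

/-- **`Good5` for the small Ree groups.** -/
theorem good5_ree (h : Lie.IsoRee S) : Good5 S := by
  obtain ⟨χ, h1, h2⟩ := eight_ree h
  exact ⟨fun i => χ (Fin.castLE (by norm_num) i), fun i j hij => by simpa using h1 hij, fun i => h2 _⟩

end ree

end Cfsg.Agent.H137.K4
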