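import Cfsg.Agent.Ree.CharMain

/-!
# Ree groups: eight irreducible characters of odd degree (helper137)

The character theory of `Ree/CharMain.lean` (S0343): under `Interface.Good` the rows of the section of the involution
`t` follow the pattern `Eight`, so that there are eight irreducible characters of odd degree.
-/

set_option autoImplicit false

namespace Cfsg.Agent.H137.K4.ReeEight

open Finset Cfsg.Agent.Ree.Interface Cfsg.Agent.Ree.NumCore Cfsg.Agent.Ree.NumPattern Cfsg.Agent.Ree.NumEight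
open Cfsg.Agent.Ree Cfsg.Agent.Ree.Numeric

section

variable {ι : Type*} [Fintype ι] [DecidableEq ι] {Q : ℤ} {g : ℕ} {deg val : ι → ℤ} {r : Fin 3 → ι → ℤ}
  {one : ι} {σ : ι ≃ ι} {k : ℕ} {a b : ι → ℤ}

/-- The seven rows pattern does not occur. -/
theorem not_seven {m : ℕ} (hQ8 : Q % 8 = 5) (hQ5 : 5 < |Q|)
    (hm : 4 * (m : ℤ) = |Q - 1|) (hb : NumBase Q g deg val r one σ)
    (ht : ∀ ℓ : ℕ, ℓ.Prime → ℓ ∣ m → ∃ a b, NumTI Q g deg val r one σ (ℓ ^ m.factorization ℓ) a b)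
    {e : Fin 7 → ι} {δ : Fin 7 → ℤ} (h : Seven r one e δ) : False := by
  have hQ : 13 ≤ Q ∨ Q ≤ -11 := by
    rcases abs_cases Q with h | h <;> omega
  have hm3 : 1 < m ∧ m % 2 = 1 := by
    rcases abs_cases (Q - 1) with h | h <;> omega
  have hm0 : m ≠ 0 := by omega
  obtain ⟨ℓ₀, hℓ₀, hℓm⟩ := Nat.exists_prime_and_dvd (by omega : m ≠ 1)
  have hQ1 : (Q : ℚ) + 1 ≠ 0 := by
    intro h; have : Q + 1 = 0 := by exact_mod_cast h
    omega
  obtain ⟨c, hc⟩ : ∃ c, 2 * c = -(Q + 1) := ⟨-(Q + 1) / 2, by omega⟩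
  have hcq : (c : ℚ) = -(Q + 1) / 2 := by
    have h4 : ((2 * c : ℤ) : ℚ) = ((-(Q + 1) : ℤ) : ℚ) := by rw [hc]
    push_cast at h4
    linarith
  have hne : ∀ {x d : ℤ}, (x = 1 ∨ x = -1) → 0 < d → x * d ≠ 0 := by
    intro x d hx hd
    rcases hx with rfl | rfl <;> omega
  obtain ⟨hd, cl0, cl1, cl2⟩ := base_eqs hb h.inj h.δ_sq h.mem (seven_vals hb h hc)
    ![![-1, 1, 0, 0, -1, -1, 0], ![-1, 0, 1, 0, -1, 0, -1], ![-1, 0, 0, 1, 0, -1, -1]]
    (by intro i j; fin_cases i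
        · exact h.r0 j
        · exact h.r1 j
        · exact h.r2 j)
  obtain ⟨⟨s1, d1⟩, s5, d5⟩ := seven_gal hb h
  have q5 := hb.gal_deg (e 5)
  rw [s5] at q5
  have hd0 := hd 0
  have hd2 := hd 2
  rw [Fin.sum_univ_seven] at hd0 hd2 cl0 cl2
  simp only [Matrix.cons_val_zero, Matrix.cons_val_one, Matrix.cons_val] at hd0 hd2 cl0 cl2
  rw [q5, ← d5] at hd0 hd2 cl0 cl2
  rw [h.zero, hb.deg_one, h.δ_zero] at hd0 hd2 cl0 cl2
  obtain ⟨H, hH⟩ : ∃ M, M = δ 1 * deg (e 1) := ⟨_, rfl⟩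
  obtain ⟨D, hD⟩ : ∃ M, M = δ 3 * deg (e 3) := ⟨_, rfl⟩
  obtain ⟨Y, hY⟩ : ∃ M, M = δ 4 * deg (e 4) := ⟨_, rfl⟩
  obtain ⟨X, hX⟩ : ∃ M, M = δ 5 * deg (e 5) := ⟨_, rfl⟩
  have hstep : ∀ ℓ : ℕ, ℓ.Prime → ℓ ∣ m → Interface.kappa Q g * (2 * (H : ℚ)) = (Q + 1) ^ 3 ∧
      ((ℓ ^ m.factorization ℓ : ℕ) : ℤ) ∣ D - 1 := by
    intro ℓ hℓ hd
    obtain ⟨a, b, hab⟩ := ht ℓ hℓ hd
    have := seven_step hb hab hQ8 h
    rw [← hH, ← hD] at this
    exact this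
  rw [← hH, ← hD, ← hY, ← hX] at hd0 hd2 cl0 cl2
  have hH0 : H ≠ 0 := hH ▸ hne (h.δ_sq 1) (hb.deg_pos _)
  have hD0 : D ≠ 0 := hD ▸ hne (h.δ_sq 3) (hb.deg_pos _)
  have hY0 : Y ≠ 0 := hY ▸ hne (h.δ_sq 4) (hb.deg_pos _)
  have hX0 : X ≠ 0 := hX ▸ hne (h.δ_sq 5) (hb.deg_pos _)
  have hDX : D = 1 + 2 * X := by linarith
  have hDm : (m : ℤ) ∣ D - 1 := dvd_of_parts hm0 fun ℓ hℓ hd => (hstep ℓ hℓ hd).2
  -- X is even
  have hX2 : (2 : ℤ) ∣ X := by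
    have h1 := hb.mod8 (e 5)
    rw [seven_vals hb h hc 5] at h1
    simp only [Matrix.cons_val] at h1
    have h2 : X - (c + 1) = δ 5 * (deg (e 5) - δ 5 * (c + 1)) := by
      rw [hX]
      rcases h.δ_sq 5 with h | h <;> rw [h] <;> ring
    have h3 : (8 : ℤ) ∣ X - (c + 1) := by rw [h2]; exact h1.mul_left _
    omega
  obtain ⟨w, hw⟩ : ∃ w, 2 * X = (Q - 1) * w := by
    have hmX : (m : ℤ) * 4 ∣ 2 * X := by
      have h1 : (m : ℤ) ∣ 2 * X := by rw [hDX] at hDm; simpa using hDm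
      have hco : IsCoprime (m : ℤ) 4 := by
        rw [Int.isCoprime_iff_gcd_eq_one]
        have h5 : Nat.Coprime m 4 := by
          have : Nat.Coprime m (2 ^ 2) := Nat.Coprime.pow_right 2 (by
            rw [Nat.coprime_comm, Nat.coprime_two_left]
            exact Nat.odd_iff.mpr hm3.2)
          exact this
        exact_mod_cast h5
      exact hco.mul_dvd h1 (by omega)
    have h1 : |Q - 1| ∣ 2 * X := by rw [← hm, mul_comm]; exact hmX
    exact (abs_dvd _ _).mp h1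
  refine SevenArith.seven_false hQ hw hX0 hDX (by linarith) hH0 hY0 hD0 (Interface.kappa Q g) (hstep ℓ₀ hℓ₀ hℓm).1 ?_ ?_
  · rw [← cl0]
    push_cast
    rw [hcq]
    ring
  · rw [← cl2]
    push_cast
    rw [hcq]
    ring

omit [DecidableEq ι] in
/-- The eight characters have odd degree. -/
theorem eight_odd (hQ8 : Q % 8 = 5) (hb : NumBase Q g deg val r one σ) {e : Fin 8 → ι} {δ : Fin 8 → ℤ}
    (h : Eight r one e δ) (j : Fin 8) : deg (e j) % 2 = 1 := by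
  obtain ⟨c, hc⟩ : ∃ c, 2 * c = -(Q + 1) := ⟨-(Q + 1) / 2, by omega⟩
  have h1 := eight_vals hb h hc j
  have h2 := hb.mod8 (e j)
  have h3 : (![1, 1, c, c, c, c, Q, Q] : Fin 8 → ℤ) j % 2 = 1 := by
    have hc2 : c % 2 = 1 := by omega
    have hq2 : Q % 2 = 1 := by omega
    fin_cases j <;> simp [hc2, hq2]
  rcases h.δ_sq j with h4 | h4 <;> rw [h4] at h1 <;> omega

end

section group

open Cfsg Cfsg.Agent.Characters.Core
open Cfsg.Agent.Ree.Rows Cfsg.Agent.Ree.DegVal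
open scoped ComplexConjugate

variable {G : Type*} [Group G] {F : Type*} [Field F] [Fintype F]
  {t : G} {L V Y : Subgroup G} {m : ℕ} {ε : ℤ}

/-- **Eight irreducible characters of odd degree** in the situation of S0343. -/
theorem exists_eight [Finite G] (h : Good F t L V Y m ε) :
    ∃ e : Fin 8 → IrrCharacter G, Function.Injective e ∧ ∀ j, ¬ 2 ∣ charDegree (e j : G → ℂ) := by
  classical
  have hC3 : ∃ s : ℂ ≃+* ℂ, (∀ ζ : ℂ, ζ ^ m = 1 → s ζ = ζ) ∧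
      ∀ z : ℂ, z ^ 2 = ε * Fintype.card F → s z = -z := by
    obtain ⟨p, hpF⟩ := CharP.exists F
    obtain ⟨n, hp, hn⟩ := FiniteField.card F p
    have : Fact p.Prime := ⟨hp⟩
    have hm0 : m ≠ 0 := by have := h.one_lt_m; omega
    obtain ⟨s, hs1, hs2⟩ := GalEx.exists_sigma_field (F := F) p h.eps h.odd_m h.card_F hm0
    refine ⟨s, fun ζ hζ => hs1 ζ m dvd_rfl ?_ hζ, hs2⟩
    intro hpm
    have h1 : (p : ℤ) ∣ (Fintype.card F : ℤ) := by
      rw [hn]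
      exact_mod_cast dvd_pow_self p n.ne_zero
    have h2 : (p : ℤ) ∣ 4 * (m : ℤ) := Dvd.dvd.mul_left (by exact_mod_cast hpm) 4
    have h3 : (p : ℤ) ∣ ε := by
      have := dvd_sub h1 h2
      rwa [h.card_F, add_sub_cancel_left] at this
    have h4 : (p : ℤ) ∣ 1 := by
      rcases h.eps with h5 | h5 <;> rw [h5] at h3
      · exact h3
      · exact (dvd_neg.1 h3)
    have h5 : p ∣ 1 := by exact_mod_cast h4
    exact hp.one_lt.ne' (Nat.dvd_one.1 h5)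
  have := Fintype.ofFinite V
  have := Fintype.ofFinite Y
  have : Finite (IrrCharacter G) := finite_irr
  have := Fintype.ofFinite (IrrCharacter G)
  obtain ⟨M, hM⟩ := Blocks.ExistsModular.exists_isPModular Nat.prime_two
  obtain ⟨τ, hτ, h1, h2, h3, hy1, hgal⟩ :=
    PSLTauMain.exists_tau h.iso m ε h.eps h.odd_m h.one_lt_m h.card_F M hM
  obtain ⟨s, hs1, hs2⟩ := hC3
  let one : IrrCharacter G := ⟨fun _ => 1, Blocks.Basic.isIrrCharacter_one⟩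
  obtain ⟨hQ8, hQ5, hm⟩ := CharMain.Q_arith h
  have hb := CharTI.numBase h hM hτ h1 h2 h3 hgal (one := one) rfl s hs2
  rcases pattern hb with ⟨e, δ, he⟩ | ⟨e, δ, he⟩
  · refine ⟨e, he.inj, fun j h2 => ?_⟩
    have h4 := eight_odd hQ8 hb he j
    have h5 : deg (e j) = (charDegree (e j : G → ℂ) : ℤ) := rfl
    rw [h5] at h4
    omega
  · exfalso
    refine not_seven hQ8 hQ5 hm hb (fun ℓ hℓ hd => ?_) he
    obtain ⟨θ, hθ, hθ1⟩ := CharTI.exists_hom (A := Y)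
      (fun a b => Subtype.ext ((SectionVal.hyp_LBlock h).Y_comm a a.2 b b.2)) hℓ
      (by rw [h.Y_card]; exact hd)
    obtain ⟨ψ, -, hψ⟩ := CharTI.exists_hom (A := V)
      (fun a b => Subtype.ext (DelLoc.comm_of_exp h.V_exp a.2 b.2)) Nat.prime_two
      (by rw [h.V_card]; norm_num)
    have hT := TIInd.hyp_of_good h
    exact ⟨TIInd.vec V Y 1 θ, TIInd.vec V Y ψ θ, CharTI.numTI h hM hτ hy1 hℓ hd one s hs1 θ hθ hθ1 ψ hψ _ _
      (hT.a_coe θ) (hT.b_coe ψ θ) (hT.a_one θ hθ1 rfl)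
      (hT.b_one ψ hψ θ rfl) (hT.aa hℓ hd θ hθ hθ1) (hT.bb hℓ hd θ hθ hθ1 ψ hψ)
      (hT.ab hℓ hd θ hθ hθ1 ψ hψ) (hT.vec_deg 1 θ) (hT.vec_deg ψ θ) (hT.vec_val h.ord_t 1 θ)
      (hT.vec_val h.ord_t ψ θ)⟩

end group

end Cfsg.Agent.H137.K4.ReeEight
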