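import Cfsg.Agent.H137.K4.Ree
import Cfsg.Agent.S2127

/-!
# S4947 row (B) for the small Ree groups (helper137)

* `inv3_of_out`: if every automorphism of `2`-power order modulo the inner ones is inner, `Odd5` gives `Inv3`;
* `inv3_ree`: `Inv3` for the small Ree groups.
-/

set_option autoImplicit false

namespace Cfsg.Agent.H137.K4

open Cfsg Cfsg.Agent.Characters.Core Cfsg.Agent.H601.K4

universe u

variable {S : Type u} [Group S]

theorem inv3_of_out (h : Odd5 S) (hin : ∀ φ : MulAut S, (∃ (k : ℕ) (s : S), ∀ x, (φ ^ 2 ^ k) x = s * x * s⁻¹) →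
    ∃ s : S, ∀ x, φ x = s * x * s⁻¹) : Inv3 S := by
  obtain ⟨χ, h1, h2⟩ := h
  intro φ hφ
  obtain ⟨s, hs⟩ := hin φ hφ
  refine ⟨fun i => χ (Fin.castLE (by norm_num) i), fun i j hij => by simpa using h1 hij, fun i => ⟨h2 _, fun x => ?_⟩⟩
  rw [hs]
  exact isIrr_isClassFunction (h2 _).1 x s

/-- The outer automorphism group of the small Ree groups has odd order. -/
theorem inner_ree (h : Lie.IsoRee S) (φ : MulAut S) (hφ : ∃ (k : ℕ) (s : S), ∀ x, (φ ^ 2 ^ k) x = s * x * s⁻¹) :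
    ∃ s : S, ∀ x, φ x = s * x * s⁻¹ := by
  obtain ⟨F, i1, i2, m, hm, hF, ⟨e⟩⟩ := h
  obtain ⟨k, s, hs⟩ := hφ
  have h1 := Cfsg.Agent.S2127.result hm hF
  set v := MulAut.congr e φ with hv
  have : Finite (Cfsg.Out ↥(Cfsg.Lie.twistedG2 F (3 ^ m))) := Nat.finite_of_card_ne_zero (by rw [h1]; omega)
  have h3 : (QuotientGroup.mk v : Cfsg.Out ↥(Cfsg.Lie.twistedG2 F (3 ^ m))) ^ (2 ^ k) = 1 := by
    rw [← QuotientGroup.mk_pow, QuotientGroup.eq_one_iff]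
    refine ⟨e s, ?_⟩
    ext1 y
    have e1 : v ^ 2 ^ k = MulAut.congr e (φ ^ 2 ^ k) := by rw [hv, map_pow]
    rw [e1]
    show e s * y * (e s)⁻¹ = e ((φ ^ 2 ^ k) (e.symm y))
    rw [hs]
    simp
  have h4 : (QuotientGroup.mk v : Cfsg.Out ↥(Cfsg.Lie.twistedG2 F (3 ^ m))) ^ (2 * m + 1) = 1 := by
    rw [← h1]; exact pow_card_eq_one'
  have h5 := Nat.dvd_gcd (orderOf_dvd_of_pow_eq_one h3) (orderOf_dvd_of_pow_eq_one h4)
  have h6 : (2 ^ k).Coprime (2 * m + 1) := Nat.Coprime.pow_left k (by simp)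
  rw [Nat.Coprime.gcd_eq_one h6, Nat.dvd_one, orderOf_eq_one_iff] at h5
  obtain ⟨y, hy⟩ := (QuotientGroup.eq_one_iff _).1 h5
  refine ⟨e.symm y, fun x => ?_⟩
  apply e.injective
  have h7 := congrArg (fun w : MulAut ↥(Cfsg.Lie.twistedG2 F (3 ^ m)) => w (e x)) hy
  have h8 : y * e x * y⁻¹ = e (φ (e.symm (e x))) := h7
  rw [e.symm_apply_apply] at h8
  rw [← h8]
  simp

theorem inv3_ree (h : Lie.IsoRee S) : Inv3 S :=
  inv3_of_out (good5_ree h).odd5 (inner_ree h)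

end Cfsg.Agent.H137.K4
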